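import Mathlib
import Cfsg.Agent.Lib.DihedralRecog

/-!
Abstract recognition lemmas for internal products with a cyclic group, the dihedral group of order
eight and the symmetric group of degree four. Used for the outer automorphism groups of the
orthogonal groups.
-/

set_option autoImplicit false

namespace Cfsg.Agent.H989.OutOrth.Abstract

variable {H : Type*} [Group H]

/-- The homomorphism `k ↦ φ ^ k` from the cyclic group of order `f`. -/
def cyc {f : ℕ} (φ : H) (h : φ ^ f = 1) : Multiplicative (ZMod f) →* H :=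
  AddMonoidHom.toMultiplicativeLeft (ZMod.lift f
    ⟨(zmultiplesHom (Additive H)) (Additive.ofMul φ), by
      rw [zmultiplesHom_apply, natCast_zsmul, ← ofMul_pow, h, ofMul_one]⟩)

theorem cyc_natCast {f : ℕ} (φ : H) (h : φ ^ f = 1) (k : ℕ) :
    cyc φ h (Multiplicative.ofAdd (k : ZMod f)) = φ ^ k := by
  unfold cyc
  have h1 : ((k : ℤ) : ZMod f) = (k : ZMod f) := by push_cast; rfl
  rw [AddMonoidHom.toMultiplicativeLeft_apply_apply, toAdd_ofAdd, ← h1, ZMod.lift_coe]
  simp

theorem exists_natCast {f : ℕ} (hf : 0 < f) (x : Multiplicative (ZMod f)) :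
    ∃ k : ℕ, x = Multiplicative.ofAdd (k : ZMod f) := by
  have : NeZero f := ⟨hf.ne'⟩
  exact ⟨(Multiplicative.toAdd x).val, by rw [ZMod.natCast_zmod_val]; rfl⟩

theorem cyc_eq {f : ℕ} (hf : 0 < f) (φ : H) (h : φ ^ f = 1) (x : Multiplicative (ZMod f)) :
    ∃ k : ℕ, cyc φ h x = φ ^ k ∧ (f ∣ k → x = 1) := by
  obtain ⟨k, rfl⟩ := exists_natCast hf x
  refine ⟨k, cyc_natCast φ h k, fun hk => ?_⟩
  rw [(ZMod.natCast_eq_zero_iff k f).2 hk]
  rfl

/-- Internal direct product with a cyclic group, from an injective homomorphism into the first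
factor. -/
theorem nonempty_prod_of_hom [Finite H] {D : Type*} [Group D] (ι : D →* H)
    (hι : Function.Injective ι) {φ : H} {f : ℕ} (hf : 0 < f)
    (hφ : φ ^ f = 1) (hcomm : ∀ d, ι d * φ = φ * ι d) (hcard : Nat.card H ≤ Nat.card D * f)
    (hint : ∀ (k : ℕ) (d : D), φ ^ k = ι d → f ∣ k) :
    Nonempty (H ≃* D × Multiplicative (ZMod f)) := by
  have : NeZero f := ⟨hf.ne'⟩
  have : Finite D := Finite.of_injective ι hι
  have hc : ∀ (d : D) (x : Multiplicative (ZMod f)), Commute (ι d) (cyc φ hφ x) := by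
    intro d x
    obtain ⟨k, hk, -⟩ := cyc_eq hf φ hφ x
    rw [hk]
    exact Commute.pow_right (hcomm d) k
  let Θ : D × Multiplicative (ZMod f) →* H := MonoidHom.noncommCoprod ι (cyc φ hφ) hc
  have hinj : Function.Injective Θ := by
    rw [injective_iff_map_eq_one]
    rintro ⟨d, x⟩ hdx
    have h1 : ι d * cyc φ hφ x = 1 := hdx
    obtain ⟨k, hk, hk1⟩ := cyc_eq hf φ hφ x
    rw [hk] at h1
    have h2 : φ ^ k = ι d⁻¹ := by rw [map_inv]; exact (eq_inv_of_mul_eq_one_right h1)
    have h3 := hk1 (hint k _ h2)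
    have h4 : φ ^ k = 1 := by rw [← hk, h3, map_one]
    rw [h4, mul_one] at h1
    have h5 : d = 1 := hι (by rw [h1, map_one])
    rw [h5, h3]; rfl
  have hbij : Function.Bijective Θ := by
    refine hinj.bijective_of_nat_card_le ?_
    rw [Nat.card_prod, Nat.card_congr Multiplicative.toAdd, Nat.card_zmod]
    exact hcard
  exact ⟨(MulEquiv.ofBijective Θ hbij).symm⟩

/-- Internal direct product with a cyclic group. -/
theorem nonempty_prod [Finite H] {D : Subgroup H} {φ : H} {f : ℕ} (hf : 0 < f)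
    (hφ : φ ^ f = 1) (hcomm : ∀ d ∈ D, d * φ = φ * d) (hcard : Nat.card H ≤ Nat.card D * f)
    (hint : ∀ k : ℕ, φ ^ k ∈ D → f ∣ k) :
    Nonempty (H ≃* D × Multiplicative (ZMod f)) :=
  nonempty_prod_of_hom D.subtype D.subtype_injective hf hφ (fun d => hcomm d d.2) hcard
    fun k d h => hint k (by rw [h]; exact d.2)

/-! ### Groups of order 8 -/

section Eight

variable {D : Type*} [Group D]

/-- A nonabelian group of order 8 with a noncentral involution. -/
theorem exists_four (hD : Nat.card D = 8) {r δ : D} (hr : r * r = 1) (hδ : δ * r ≠ r * δ) :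
    ∃ t : D, orderOf t = 4 ∧ r * t * r⁻¹ = t⁻¹ ∧ r ∉ Subgroup.zpowers t := by
  classical
  have : Finite D := Nat.finite_of_card_ne_zero (by omega)
  -- an element of order 4
  obtain ⟨t, ht⟩ : ∃ t : D, orderOf t = 4 := by
    by_contra hno
    push Not at hno
    have hsq : ∀ x : D, x ^ 2 = 1 := by
      intro x
      have h1 : orderOf x ∣ 2 ^ 3 := by rw [show 2 ^ 3 = 8 from rfl, ← hD]; exact orderOf_dvd_natCard x
      obtain ⟨i, hi, hxi⟩ := (Nat.dvd_prime_pow Nat.prime_two).1 h1
      interval_cases i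
      · rw [pow_zero, orderOf_eq_one_iff] at hxi; rw [hxi, one_pow]
      · rw [pow_one] at hxi; rw [← hxi]; exact pow_orderOf_eq_one x
      · exact absurd hxi (hno x)
      · exfalso
        have h2 : orderOf (x ^ 2) = 4 := by
          rw [orderOf_pow' x (by norm_num), hxi]; norm_num
        exact hno _ h2
    apply hδ
    have h1 := hsq (δ * r)
    have h2 := hsq δ
    have h3 := hsq r
    rw [pow_two] at h1 h2 h3
    calc δ * r = δ * r * (r * δ * (r * δ)) := by
          rw [show r * δ * (r * δ) = 1 by have := hsq (r * δ); rwa [pow_two] at this, mul_one]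
      _ = δ * (r * r) * (δ * (r * δ)) := by group
      _ = (δ * δ) * (r * δ) := by rw [h3]; group
      _ = r * δ := by rw [h2, one_mul]
  have hz : Nat.card (Subgroup.zpowers t) = 4 := by rw [Nat.card_zpowers, ht]
  have hidx : (Subgroup.zpowers t).index = 2 := by
    have := Subgroup.card_mul_index (Subgroup.zpowers t)
    rw [hz, hD] at this; omega
  have hnor : (Subgroup.zpowers t).Normal := Subgroup.normal_of_index_eq_two hidx
  have hconj : ∀ x : D, x * t * x⁻¹ = t ∨ x * t * x⁻¹ = t⁻¹ := by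
    intro x
    have h1 : x * t * x⁻¹ ∈ Subgroup.zpowers t :=
      hnor.conj_mem t (Subgroup.mem_zpowers t) x
    have h2 : orderOf (x * t * x⁻¹) = 4 := by
      rw [← ht]; exact (MulAut.conj x).orderOf_eq t
    have h1' : x * t * x⁻¹ ∈ Submonoid.powers t := mem_powers_iff_mem_zpowers.2 h1
    rw [mem_powers_iff_mem_range_orderOf, ht, Finset.mem_image] at h1'
    obtain ⟨i, hi, h3⟩ := h1'
    rw [Finset.mem_range] at hi
    have ht4 : t ^ 4 = 1 := by rw [← ht]; exact pow_orderOf_eq_one t
    rw [← h3] at h2 ⊢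
    interval_cases i
    · rw [pow_zero, orderOf_one] at h2; omega
    · left; rw [pow_one]
    · exfalso
      rw [orderOf_pow' t (by norm_num), ht] at h2
      norm_num at h2
    · right
      rw [eq_inv_iff_mul_eq_one, ← pow_succ]; exact ht4
  have hrt : r ∉ Subgroup.zpowers t := by
    intro hrt
    have h1' : r ∈ Submonoid.powers t := mem_powers_iff_mem_zpowers.2 hrt
    rw [mem_powers_iff_mem_range_orderOf, ht, Finset.mem_image] at h1'
    obtain ⟨i, hi, h3⟩ := h1'
    rw [Finset.mem_range] at hi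
    have ht4 : t ^ 4 = 1 := by rw [← ht]; exact pow_orderOf_eq_one t
    have ht2 : t ^ 2 ≠ 1 := by
      intro h
      have := orderOf_dvd_of_pow_eq_one h
      rw [ht] at this; omega
    have hδr : δ * r * δ⁻¹ ≠ r := by
      intro h
      apply hδ
      calc δ * r = δ * r * δ⁻¹ * δ := by group
        _ = r * δ := by rw [h]
    rw [← h3] at hr hδr
    interval_cases i
    · exact hδr (by group)
    · rw [pow_one, ← pow_two] at hr; exact ht2 hr
    · apply hδr
      rw [← conj_pow]
      rcases hconj δ with h | h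
      · rw [h]
      · rw [h, inv_pow, inv_eq_iff_mul_eq_one, ← pow_add]; exact ht4
    · rw [← pow_add] at hr
      apply ht2
      calc t ^ 2 = t ^ 4 * t ^ 2 := by rw [ht4, one_mul]
        _ = t ^ (3 + 3) := by rw [← pow_add]
        _ = 1 := hr
  refine ⟨t, ht, ?_, hrt⟩
  rcases hconj r with h | h
  · exfalso
    -- then `D` is abelian
    have hrt' : r * t = t * r := by
      calc r * t = r * t * r⁻¹ * r := by group
        _ = t * r := by rw [h]
    have hcr : ∀ x : D, x * r = r * x := by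
      intro x
      have hmem : ∀ y ∈ Subgroup.zpowers t, y * r = r * y := by
        rintro _ ⟨k, rfl⟩
        exact (Commute.zpow_left (show Commute t r from hrt'.symm) k)
      by_cases hx : x ∈ Subgroup.zpowers t
      · exact hmem x hx
      · have h1 : x * r ∈ Subgroup.zpowers t := by
          have := Subgroup.mul_mem_iff_of_index_two hidx (a := x) (b := r)
          rw [this]
          exact ⟨fun h => absurd h hx, fun h => absurd h hrt⟩
        have h2 := hmem _ h1
        calc x * r = (x * r) * r * r⁻¹ := by group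
          _ = r * (x * r) * r⁻¹ := by rw [h2]
          _ = r * x := by group
    exact hδ (hcr δ)
  · exact h

end Eight

open Cfsg.Agent.Lib.DihedralRecog in
/-- A normal nonabelian subgroup of order 8 extended by a cyclic group whose generator centralises a
noncentral involution: the direct product of the dihedral group of order 8 and the cyclic group. -/
theorem dihedral_prod [Finite H] {D : Subgroup H} (hDn : D.Normal) {φ r : H} {f : ℕ} (hf : 0 < f)
    (hφ : φ ^ f = 1) (hD8 : Nat.card D = 8) (hr : r ∈ D) (hr2 : r * r = 1)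
    (hδ : ∃ δ ∈ D, δ * r ≠ r * δ) (hrφ : φ * r = r * φ) (hcard : Nat.card H ≤ 8 * f)
    (hint : ∀ k : ℕ, φ ^ k ∈ D → f ∣ k) :
    Nonempty (H ≃* DihedralGroup 4 × Multiplicative (ZMod f)) := by
  obtain ⟨δ, hδD, hδr⟩ := hδ
  obtain ⟨t, ht, hrt, hrnt⟩ := exists_four hD8 (r := ⟨r, hr⟩) (δ := ⟨δ, hδD⟩) (Subtype.ext hr2)
    (fun h => hδr (congrArg Subtype.val h))
  have ht1 : orderOf (t : H) = 4 := by rw [Subgroup.orderOf_coe]; exact ht
  have ht4 : (t : H) ^ 4 = 1 := by rw [← ht1]; exact pow_orderOf_eq_one _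
  have hrt' : r * t * r⁻¹ = (t : H)⁻¹ := congrArg Subtype.val hrt
  have hrnt' : r ∉ Subgroup.zpowers (t : H) := by
    rintro ⟨k, hk⟩
    exact hrnt ⟨k, Subtype.ext hk⟩
  let e : DihedralGroup 4 →* H := dihedralHom (t : H) r ht4 hr2 hrt'
  have hinj : Function.Injective e := dihedralHom_injective (t : H) r ht4 hr2 hrt' ht1 hrnt'
  have hle : e.range ≤ D := by
    rintro _ ⟨x | x, rfl⟩
    · exact Subgroup.zpowers_le.2 t.2 (zpw_mem (t : H) ht4 x)
    · exact D.mul_mem hr (Subgroup.zpowers_le.2 t.2 (zpw_mem (t : H) ht4 x))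
  have hrange : e.range = D := by
    apply Subgroup.eq_of_le_of_card_ge hle
    rw [hD8, ← Nat.card_congr (MonoidHom.ofInjective hinj).toEquiv, DihedralGroup.nat_card]
  -- an element commuting with `r` and `t` commutes with `e x`
  have hcomm : ∀ ψ : H, ψ * r = r * ψ → ψ * t = t * ψ → ∀ x, e x * ψ = ψ * e x := by
    intro ψ h1 h2 x
    have h3 : ∀ i, zpw (t : H) ht4 i * ψ = ψ * zpw (t : H) ht4 i := by
      intro i
      obtain ⟨k, hk⟩ := zpw_mem (t : H) ht4 i
      rw [← hk]
      exact ((show Commute ψ t from h2).zpow_right k).symm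
    rcases x with x | x
    · exact h3 x
    · show r * zpw (t : H) ht4 x * ψ = ψ * (r * zpw (t : H) ht4 x)
      rw [mul_assoc, h3, ← mul_assoc, ← h1, mul_assoc]
  -- the conjugate of `t` by `φ`
  have hdec : ∀ x : DihedralGroup 4, x * x ≠ 1 → x = .r 1 ∨ x = .r 3 := by decide
  have hφt : φ * t * φ⁻¹ = t ∨ φ * t * φ⁻¹ = (t : H)⁻¹ := by
    have h1 : φ * t * φ⁻¹ ∈ e.range := by rw [hrange]; exact hDn.conj_mem t t.2 φ
    obtain ⟨x, hx⟩ := h1
    have h2 : x * x ≠ 1 := by
      intro h
      have h3 : (φ * t * φ⁻¹) * (φ * t * φ⁻¹) = 1 := by rw [← hx, ← map_mul, h, map_one]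
      have h4 : (t : H) ^ 2 = 1 := by
        have : (φ * t * φ⁻¹) * (φ * t * φ⁻¹) = φ * (t : H) ^ 2 * φ⁻¹ := by rw [pow_two]; group
        rw [this] at h3
        have h5 : φ * (t : H) ^ 2 = φ := by
          calc φ * (t : H) ^ 2 = φ * (t : H) ^ 2 * φ⁻¹ * φ := by group
            _ = φ := by rw [h3, one_mul]
        exact mul_eq_left.1 h5
      have := orderOf_dvd_of_pow_eq_one h4
      rw [ht1] at this
      omega
    rcases hdec x h2 with rfl | rfl
    · left
      rw [← hx]
      exact zpw_one (t : H) ht4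
    · right
      rw [← hx]
      show zpw (t : H) ht4 3 = _
      have : (3 : ZMod 4) = ((3 : ℕ) : ZMod 4) := rfl
      rw [this, zpw_natCast, eq_inv_iff_mul_eq_one, ← pow_succ]
      exact ht4
  -- the corrected generator
  have main : ∀ ψ : H, ψ * r = r * ψ → ψ * t = t * ψ → ψ ^ f = 1 →
      (∀ k : ℕ, ψ ^ k ∈ D → f ∣ k) →
      Nonempty (H ≃* DihedralGroup 4 × Multiplicative (ZMod f)) := by
    intro ψ h1 h2 h3 h4
    refine nonempty_prod_of_hom e hinj hf h3 (fun d => hcomm ψ h1 h2 d) ?_ ?_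
    · rw [DihedralGroup.nat_card]; exact hcard
    · intro k d hk
      exact h4 k (by rw [hk]; exact hle ⟨d, rfl⟩)
  rcases hφt with h | h
  · refine main φ hrφ ?_ hφ hint
    calc φ * t = φ * t * φ⁻¹ * φ := by group
      _ = t * φ := by rw [h]
  · rcases Nat.even_or_odd f with hf2 | hf2
    · have hcr : Commute φ r := hrφ
      refine main (φ * r) ?_ ?_ ?_ ?_
      · rw [hrφ, mul_assoc, hrφ]
      · have h1 : r * t = (t : H)⁻¹ * r := by
          calc r * t = r * t * r⁻¹ * r := by group
            _ = (t : H)⁻¹ * r := by rw [hrt']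
        have h2 : φ * (t : H)⁻¹ = t * φ := by
          calc φ * (t : H)⁻¹ = (φ * t * φ⁻¹)⁻¹ * φ := by group
            _ = t * φ := by rw [h, inv_inv]
        rw [mul_assoc, h1, ← mul_assoc, h2, mul_assoc]
      · rw [hcr.mul_pow, hφ, one_mul]
        obtain ⟨k, hk⟩ := hf2
        rw [hk, ← two_mul, pow_mul, pow_two, hr2, one_pow]
      · intro k hk
        rw [hcr.mul_pow] at hk
        apply hint
        have := D.mul_mem hk (D.inv_mem (D.pow_mem hr k))
        rwa [mul_inv_cancel_right] at this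
    · exfalso
      have key : ∀ k : ℕ, φ ^ (2 * k) * t = t * φ ^ (2 * k) := by
        intro k
        have h1 : Commute (φ ^ 2) (t : H) := by
          show φ ^ 2 * t = t * φ ^ 2
          have h2 : φ * (t : H)⁻¹ = t * φ := by
            calc φ * (t : H)⁻¹ = (φ * t * φ⁻¹)⁻¹ * φ := by group
              _ = t * φ := by rw [h, inv_inv]
          have h3 : φ * t = (t : H)⁻¹ * φ := by
            calc φ * t = φ * t * φ⁻¹ * φ := by group
              _ = (t : H)⁻¹ * φ := by rw [h]
          rw [pow_two, mul_assoc, h3, ← mul_assoc, h2, mul_assoc]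
        rw [pow_mul]
        exact h1.pow_left k
      obtain ⟨k, hk⟩ := hf2
      have h1 : φ ^ f * t = (t : H)⁻¹ * φ ^ f := by
        rw [hk, pow_succ', mul_assoc, key, ← mul_assoc, ← mul_assoc]
        congr 1
        calc φ * t = φ * t * φ⁻¹ * φ := by group
          _ = (t : H)⁻¹ * φ := by rw [h]
      rw [hφ, one_mul, mul_one] at h1
      have h2 : (t : H) ^ 2 = 1 := by
        rw [pow_two]; nth_rewrite 1 [h1]; rw [inv_mul_cancel]
      have := orderOf_dvd_of_pow_eq_one h2
      rw [ht1] at this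
      omega

/-- A group of order `2 * n` with an element whose `n`-th power is nontrivial and whose order is a
multiple of `n`. -/
theorem isCyclic_of_pow [Finite H] {φ : H} {f : ℕ} (hf : 0 < f) (h1 : φ ^ f ≠ 1)
    (h2 : ∀ k : ℕ, φ ^ k = 1 → f ∣ k) (hcard : Nat.card H = 2 * f) : IsCyclic H := by
  apply isCyclic_of_orderOf_eq_card φ
  have h3 : orderOf φ ∣ 2 * f := by rw [← hcard]; exact orderOf_dvd_natCard φ
  obtain ⟨c, hc⟩ := h2 _ (pow_orderOf_eq_one φ)
  rw [hcard, hc]
  rw [hc] at h3
  have h4 : c ∣ 2 := by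
    rw [mul_comm 2 f] at h3
    exact Nat.dvd_of_mul_dvd_mul_left hf h3
  have h5 : c ≠ 1 := by
    rintro rfl
    apply h1
    rw [mul_one] at hc
    rw [← hc]
    exact pow_orderOf_eq_one φ
  rcases (Nat.dvd_prime Nat.prime_two).1 h4 with h | h
  · exact absurd h h5
  · rw [h, mul_comm]

/-- The group generated by an involution as image of `ZMod 2`. -/
theorem cyc_two_injective {r : H} (hr : r ^ 2 = 1) (hr1 : r ≠ 1) :
    Function.Injective (cyc r hr) := by
  rw [injective_iff_map_eq_one]
  intro x hx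
  obtain ⟨k, hk, hk1⟩ := cyc_eq (by norm_num) r hr x
  apply hk1
  rw [hk] at hx
  rcases Nat.even_or_odd k with h | h
  · exact h.two_dvd
  · exfalso
    obtain ⟨j, hj⟩ := h
    rw [hj, pow_succ, pow_mul, hr, one_pow, one_mul] at hx
    exact hr1 hx

/-- Four elements `1, a, b, ab`: the homomorphism from `C₂ × C₂`. -/
theorem four_injective {a b : H} (ha : a ^ 2 = 1) (hb : b ^ 2 = 1) (hab : a * b = b * a)
    (ha1 : a ≠ 1) (hb1 : b ≠ 1) (hne : a ≠ b) :
    ∃ ι : Multiplicative (ZMod 2) × Multiplicative (ZMod 2) →* H, Function.Injective ι ∧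
      ∀ x, ι x = 1 ∨ ι x = a ∨ ι x = b ∨ ι x = a * b := by
  have hc : ∀ (x y : Multiplicative (ZMod 2)), Commute (cyc a ha x) (cyc b hb y) := by
    intro x y
    obtain ⟨k, hk, -⟩ := cyc_eq (by norm_num) a ha x
    obtain ⟨l, hl, -⟩ := cyc_eq (by norm_num) b hb y
    rw [hk, hl]
    exact (show Commute a b from hab).pow_pow k l
  have hpow : ∀ (c : H), c ^ 2 = 1 → ∀ k : ℕ, c ^ k = 1 ∨ c ^ k = c := by
    intro c hc k
    rcases Nat.even_or_odd k with h | h
    · obtain ⟨j, hj⟩ := h.two_dvd
      left; rw [hj, pow_mul, hc, one_pow]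
    · obtain ⟨j, hj⟩ := h
      right; rw [hj, pow_succ, pow_mul, hc, one_pow, one_mul]
  refine ⟨MonoidHom.noncommCoprod (cyc a ha) (cyc b hb) hc, ?_, ?_⟩
  · rw [injective_iff_map_eq_one]
    rintro ⟨x, y⟩ hxy
    have h1 : cyc a ha x * cyc b hb y = 1 := hxy
    obtain ⟨k, hk, -⟩ := cyc_eq (by norm_num) a ha x
    obtain ⟨l, hl, -⟩ := cyc_eq (by norm_num) b hb y
    rcases hpow a ha k with h2 | h2 <;> rcases hpow b hb l with h3 | h3
    · have hx : x = 1 := cyc_two_injective ha ha1 (by rw [hk, h2, map_one])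
      have hy : y = 1 := cyc_two_injective hb hb1 (by rw [hl, h3, map_one])
      rw [hx, hy]; rfl
    · rw [hk, hl, h2, h3, one_mul] at h1; exact absurd h1 hb1
    · rw [hk, hl, h2, h3, mul_one] at h1; exact absurd h1 ha1
    · rw [hk, hl, h2, h3] at h1
      exfalso
      apply hne
      rw [← eq_inv_iff_mul_eq_one] at h1
      rw [h1]
      rw [inv_eq_iff_mul_eq_one, ← pow_two]; exact hb
  · rintro ⟨x, y⟩
    show cyc a ha x * cyc b hb y = 1 ∨ _
    obtain ⟨k, hk, -⟩ := cyc_eq (by norm_num) a ha x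
    obtain ⟨l, hl, -⟩ := cyc_eq (by norm_num) b hb y
    rcases hpow a ha k with h2 | h2 <;> rcases hpow b hb l with h3 | h3
    · left; show cyc a ha x * cyc b hb y = 1; rw [hk, hl, h2, h3, one_mul]
    · right; right; left; show cyc a ha x * cyc b hb y = b; rw [hk, hl, h2, h3, one_mul]
    · right; left; show cyc a ha x * cyc b hb y = a; rw [hk, hl, h2, h3, mul_one]
    · right; right; right; show cyc a ha x * cyc b hb y = a * b; rw [hk, hl, h2, h3]

end Cfsg.Agent.H989.OutOrth.Abstract
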