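import Mathlib
import Cfsg.Prelude.Def_KGroupFacts
import Cfsg.Agent.AutOrth.Final
import Cfsg.Agent.H989.OutOrth.Abstract

/-!
# Outer automorphisms of `E Q / Z(E Q)` induced by semisimilitudes

`out Q : Gam Q →* Out (P Q)`, its kernel, the subgroup `D` of classes of similitudes, and the orders.
-/

set_option autoImplicit false

namespace Cfsg.Agent.H989.OutOrth.Basic

open QuadraticMap Cfsg.Agent.LieClassical.OrthCore Cfsg.Agent.LieClassical.OrthTrans
  Cfsg.Agent.LieClassical.OrthSimple Cfsg.Agent.ClassicalGeometry.OrthSemi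
  Cfsg.Agent.ClassicalGeometry.OrthSemiCount Cfsg.Agent.ClassicalGeometry.OrthAut1
  Cfsg.Agent.H989.OutOrth.Abstract

variable {F V : Type*} [Field F] [AddCommGroup V] [Module F V] {Q : QuadraticForm F V}

/-- The field automorphism of a semisimilitude. -/
noncomputable def sgFun (M : Gam Q) : RingAut F := Classical.choose (mem_Gam.1 M.2)

theorem sgFun_eq (hG : Good Q) {M : Gam Q} {σ : F ≃+* F} {c : F} (h : IsSS Q σ c M.1) :
    sgFun M = σ :=
  (isSS_unique hG (Classical.choose_spec (Classical.choose_spec (mem_Gam.1 M.2))) h).1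

/-- The field automorphism of a semisimilitude, as a homomorphism. -/
noncomputable def sg (hG : Good Q) : Gam Q →* RingAut F where
  toFun M := sgFun M
  map_one' := sgFun_eq hG (M := 1) (σ := RingEquiv.refl F) (c := 1)
    ⟨one_ne_zero, fun _ _ => rfl, fun _ _ => rfl, fun _ => by rw [one_mul]; rfl⟩
  map_mul' M N := by
    obtain ⟨σ, c, hM⟩ := M.2
    obtain ⟨τ, d, hN⟩ := N.2
    rw [sgFun_eq hG hM, sgFun_eq hG hN]
    exact sgFun_eq hG (M := M * N) (hM.mul hN)

theorem sg_eq (hG : Good Q) {M : Gam Q} {σ : F ≃+* F} {c : F} (h : IsSS Q σ c M.1) :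
    sg hG M = σ := sgFun_eq hG h

/-- The outer class of a semisimilitude. -/
noncomputable def out (Q : QuadraticForm F V) : Gam Q →* Cfsg.Out (P Q) :=
  (QuotientGroup.mk' (Cfsg.Inn (P Q))).comp (Psi Q)

/-- Isometries as semisimilitudes. -/
def ofO (Q : QuadraticForm F V) : O Q →* Gam Q :=
  (permO Q).codRestrict (Gam Q) fun g => ⟨_, _, isSS_permO g⟩

theorem ofO_apply (g : O Q) (v : V) : (ofO Q g).1 v = g.1 v := rfl

theorem isSS_ofO (g : O Q) : IsSS Q (RingEquiv.refl F) 1 (ofO Q g).1 := isSS_permO g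

theorem Psi_ofO (g : ↥(E Q)) : Psi Q (ofO Q ⟨g, E_le_O g.2⟩) = MulAut.conj (g : P Q) := by
  ext x
  induction x using QuotientGroup.induction_on with
  | H h =>
    rw [Psi_mk, MulAut.conj_apply]
    show _ = ((g * h * g⁻¹ : ↥(E Q)) : P Q)
    congr 1

theorem out_ofO_E (g : ↥(E Q)) : out Q (ofO Q ⟨g, E_le_O g.2⟩) = 1 := by
  show (QuotientGroup.mk' (Cfsg.Inn (P Q))) (Psi Q _) = 1
  rw [Psi_ofO, QuotientGroup.mk'_apply, QuotientGroup.eq_one_iff]
  exact ⟨_, rfl⟩

theorem out_ofO_of_mem {g : V ≃ₗ[F] V} (hg : g ∈ E Q) : out Q (ofO Q ⟨g, E_le_O hg⟩) = 1 :=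
  out_ofO_E ⟨g, hg⟩

theorem Psi_scal (hG : Good Q) (a : Fˣ) : Psi Q (scal Q a) = 1 := by
  rw [← MonoidHom.mem_ker, ker_Psi hG]
  exact ⟨a, rfl⟩

theorem out_scal (hG : Good Q) (a : Fˣ) : out Q (scal Q a) = 1 := by
  show (QuotientGroup.mk' (Cfsg.Inn (P Q))) (Psi Q _) = 1
  rw [Psi_scal hG, map_one]

/-- The kernel of `out`. -/
theorem out_eq_one_iff (hG : Good Q) (M : Gam Q) :
    out Q M = 1 ↔ ∃ (g : ↥(E Q)) (a : Fˣ), M = ofO Q ⟨g, E_le_O g.2⟩ * scal Q a := by
  constructor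
  · intro h
    have h1 : Psi Q M ∈ Cfsg.Inn (P Q) := (QuotientGroup.eq_one_iff _).1 h
    obtain ⟨p, hp⟩ := h1
    obtain ⟨g, rfl⟩ := QuotientGroup.mk_surjective p
    have h2 : Psi Q ((ofO Q ⟨g, E_le_O g.2⟩)⁻¹ * M) = 1 := by
      rw [map_mul, map_inv, Psi_ofO, hp, inv_mul_cancel]
    rw [← MonoidHom.mem_ker, ker_Psi hG] at h2
    obtain ⟨a, ha⟩ := h2
    exact ⟨g, a, by rw [ha, mul_inv_cancel_left]⟩
  · rintro ⟨g, a, rfl⟩
    rw [map_mul, out_ofO_E, out_scal hG, one_mul]

theorem isSS_scal (a : Fˣ) : IsSS Q (RingEquiv.refl F) (a * a) (scal Q a).1 :=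
  ⟨mul_ne_zero a.ne_zero a.ne_zero, fun _ _ => smul_add _ _ _,
    fun _ _ => smul_comm _ _ _, fun v => by
      rw [scal_apply, QuadraticMap.map_smul]; rfl⟩

theorem sg_ofO (hG : Good Q) (g : O Q) : sg hG (ofO Q g) = 1 := sg_eq hG (isSS_ofO g)

theorem sg_scal (hG : Good Q) (a : Fˣ) : sg hG (scal Q a) = 1 := sg_eq hG (isSS_scal a)

theorem sg_eq_one_of_out (hG : Good Q) {M : Gam Q} (h : out Q M = 1) : sg hG M = 1 := by
  obtain ⟨g, a, rfl⟩ := (out_eq_one_iff hG M).1 h
  rw [map_mul, sg_ofO, sg_scal, one_mul]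

/-! ### Orders -/

theorem conj_injective (hG : Good Q) : Function.Injective (MulAut.conj : P Q →* MulAut (P Q)) := by
  have hs : IsSimpleGroup (P Q) := good_isSimpleGroup hG
  rw [← MonoidHom.ker_eq_bot_iff]
  rcases (MonoidHom.normal_ker (MulAut.conj : P Q →* MulAut (P Q))).eq_bot_or_eq_top with h | h
  · exact h
  · exfalso
    have hcomm : ∀ x y : P Q, x * y = y * x := by
      intro x y
      have h1 : x ∈ (MulAut.conj : P Q →* MulAut (P Q)).ker := by rw [h]; exact Subgroup.mem_top x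
      have h2 := DFunLike.congr_fun ((MonoidHom.mem_ker).1 h1) y
      rw [MulAut.conj_apply, MulAut.one_apply] at h2
      calc x * y = x * y * x⁻¹ * x := by group
        _ = y * x := by rw [h2]
    have h1 : commutator (P Q) = ⊥ := by
      rw [commutator_eq_bot_iff_center_eq_top, Subgroup.eq_top_iff']
      intro x
      rw [Subgroup.mem_center_iff]
      exact fun g => hcomm g x
    have h2 : commutator (P Q) = ⊤ := by
      have h3 : (commutator ↥(E Q)).map (QuotientGroup.mk' (Subgroup.center ↥(E Q))) =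
          commutator (P Q) := by
        rw [commutator_def, Subgroup.map_commutator, ← MonoidHom.range_eq_map,
          MonoidHom.range_eq_top.2 (QuotientGroup.mk'_surjective _), commutator_def]
      rw [← h3, commutator_E hG, ← MonoidHom.range_eq_map,
          MonoidHom.range_eq_top.2 (QuotientGroup.mk'_surjective _)]
    rw [h1] at h2
    obtain ⟨x, hx⟩ := exists_ne (1 : P Q)
    have h3 : x ∈ (⊤ : Subgroup (P Q)) := Subgroup.mem_top x
    rw [← h2, Subgroup.mem_bot] at h3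
    exact hx h3

theorem card_Inn (hG : Good Q) : Nat.card (Cfsg.Inn (P Q)) = Nat.card (P Q) :=
  (Nat.card_congr (MonoidHom.ofInjective (conj_injective hG)).toEquiv).symm

theorem Inn_le_range : Cfsg.Inn (P Q) ≤ (Psi Q).range := by
  rintro _ ⟨p, rfl⟩
  obtain ⟨g, rfl⟩ := QuotientGroup.mk_surjective p
  exact ⟨_, Psi_ofO g⟩

theorem range_out : (out Q).range = (Psi Q).range.map (QuotientGroup.mk' (Cfsg.Inn (P Q))) := by
  rw [out, MonoidHom.range_comp]

theorem card_range_out [Finite V] (hG : Good Q) :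
    Nat.card (out Q).range * Nat.card (P Q) = Nat.card (Psi Q).range := by
  have hfinE : Finite (V ≃ₗ[F] V) := Finite.of_injective (fun g => g.toEquiv)
    fun g h e => LinearEquiv.toEquiv_injective e
  have hfin : Finite (P Q) := inferInstance
  have hfin2 : Finite (MulAut (P Q)) := inferInstance
  have hidx : (out Q).range.index = (Psi Q).range.index := by
    rw [range_out]
    refine Subgroup.index_map_eq _ (QuotientGroup.mk'_surjective _) ?_
    rw [QuotientGroup.ker_mk']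
    exact Inn_le_range
  have h1 := Subgroup.card_mul_index (out Q).range
  have h2 := Subgroup.card_mul_index (Psi Q).range
  have h3 : Nat.card (MulAut (P Q)) = Nat.card (Cfsg.Out (P Q)) * Nat.card (P Q) := by
    rw [← card_Inn hG]
    exact Subgroup.card_eq_card_quotient_mul_card_subgroup _
  rw [hidx] at h1
  have h4 : 0 < (Psi Q).range.index := Nat.pos_of_ne_zero Subgroup.index_ne_zero_of_finite
  apply Nat.eq_of_mul_eq_mul_right h4
  rw [h2, h3, ← h1]
  ring

/-- The classes of similitudes. -/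
noncomputable def D (hG : Good Q) : Subgroup (Cfsg.Out (P Q)) := (sg hG).ker.map (out Q)

theorem mem_D {hG : Good Q} {x : Cfsg.Out (P Q)} :
    x ∈ D hG ↔ ∃ M, sg hG M = 1 ∧ out Q M = x := by
  constructor
  · rintro ⟨M, hM, h⟩
    exact ⟨M, hM, h⟩
  · rintro ⟨M, hM, h⟩
    exact ⟨M, hM, h⟩

theorem out_mem_D {hG : Good Q} {M : Gam Q} : out Q M ∈ D hG ↔ sg hG M = 1 := by
  rw [mem_D]
  constructor
  · rintro ⟨N, hN, h⟩
    have h1 : out Q (N⁻¹ * M) = 1 := by rw [map_mul, map_inv, h, inv_mul_cancel]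
    have h2 := sg_eq_one_of_out hG h1
    rwa [map_mul, map_inv, hN, inv_one, one_mul] at h2
  · intro h
    exact ⟨M, h, rfl⟩

theorem card_D [Finite V] (hG : Good Q) :
    Nat.card (D hG) * Nat.card (sg hG).range = Nat.card (out Q).range := by
  have hfinE : Finite (V ≃ₗ[F] V) := Finite.of_injective (fun g => g.toEquiv)
    fun g h e => LinearEquiv.toEquiv_injective e
  have hfin : Finite (P Q) := inferInstance
  have hfin2 : Finite (MulAut (P Q)) := inferInstance
  have hle : (out Q).ker ≤ (sg hG).ker := fun M hM => sg_eq_one_of_out hG hM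
  have h1 := Subgroup.card_mul_index (out Q).ker
  rw [Subgroup.index_ker] at h1
  have h2 := Subgroup.card_mul_index (sg hG).ker
  rw [Subgroup.index_ker] at h2
  have h3 := Subgroup.card_mul_index ((out Q).comp (sg hG).ker.subtype).ker
  rw [Subgroup.index_ker] at h3
  have h4 : ((out Q).comp (sg hG).ker.subtype).range = D hG := by
    rw [MonoidHom.range_comp, Subgroup.range_subtype, D]
  have h5 : Nat.card ((out Q).comp (sg hG).ker.subtype).ker = Nat.card (out Q).ker := by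
    refine Nat.card_congr ⟨fun x => ⟨x.1.1, x.2⟩, fun x => ⟨⟨x.1, hle x.2⟩, x.2⟩,
      fun x => rfl, fun x => rfl⟩
  rw [h4, h5] at h3
  have h6 : 0 < Nat.card (out Q).ker := Nat.card_pos
  apply Nat.eq_of_mul_eq_mul_left h6
  rw [h1, ← h2, ← mul_assoc, h3]

theorem D_normal (hG : Good Q) (h : Function.Surjective (Psi Q)) : (D hG).Normal := by
  have h1 : Function.Surjective (out Q) :=
    (QuotientGroup.mk'_surjective _).comp h
  exact Subgroup.Normal.map (MonoidHom.normal_ker _) _ h1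

/-! ### Reflections -/

/-- Reflections as semisimilitudes. -/
def rf (v : V) (hv : Q v ≠ 0) : Gam Q := ofO Q ⟨refl Q v hv, refl_mem_O hv⟩

theorem rf_apply {v : V} (hv : Q v ≠ 0) (x : V) : (rf v hv).1 x = refl Q v hv x := rfl

theorem rf_mul_self {v : V} (hv : Q v ≠ 0) : rf v hv * rf v hv = 1 := by
  rw [rf, ← map_mul]
  have : (⟨refl Q v hv, refl_mem_O hv⟩ : O Q) * ⟨refl Q v hv, refl_mem_O hv⟩ = 1 :=
    Subtype.ext (refl_mul_self hv)
  rw [this, map_one]

theorem sg_rf (hG : Good Q) {v : V} (hv : Q v ≠ 0) : sg hG (rf v hv) = 1 := sg_ofO hG _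

theorem conj_rf (M : Gam Q) {v : V} (hv : Q v ≠ 0) (hv' : Q (M.1 v) ≠ 0) :
    M * rf v hv * M⁻¹ = rf (M.1 v) hv' := by
  obtain ⟨σ, c, hM⟩ := M.2
  rw [mul_inv_eq_iff_eq_mul]
  apply Subtype.ext
  ext x
  show M.1 (refl Q v hv x) = refl Q (M.1 v) hv' (M.1 x)
  rw [refl_apply, refl_apply, hM.sub, hM.smul, hM.polar, hM.form]
  congr 2
  rw [map_mul, map_inv₀]
  have hc := hM.ne
  field_simp

theorem Q_ne (M : Gam Q) {v : V} (hv : Q v ≠ 0) : Q (M.1 v) ≠ 0 := by
  obtain ⟨σ, c, hM⟩ := M.2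
  rw [hM.form]
  exact mul_ne_zero hM.ne (by simpa using hv)

/-- The class of a reflection depends only on the norm. -/
theorem out_rf_of_eq (hG : Good Q) {v w : V} (hv : Q v ≠ 0) (hw : Q w ≠ 0) (h : Q v = Q w) :
    out Q (rf v hv) = out Q (rf w hw) := by
  have h1 := out_ofO_of_mem (hG.refl_mul_refl_mem hv hw h)
  have h2 : rf w hw * rf v hv =
      ofO Q ⟨refl Q w hw * refl Q v hv, E_le_O (hG.refl_mul_refl_mem hv hw h)⟩ := by
    rw [rf, rf, ← map_mul]; rfl
  rw [← h2, map_mul] at h1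
  have h3 : out Q (rf w hw) * out Q (rf w hw) = 1 := by rw [← map_mul, rf_mul_self, map_one]
  exact mul_left_cancel (h1.trans h3.symm)

/-- The class of a reflection depends only on the norm modulo squares. -/
theorem out_rf_of_square (hG : Good Q) {v w : V} (hv : Q v ≠ 0) (hw : Q w ≠ 0) {s : F}
    (h : Q w = s * s * Q v) : out Q (rf v hv) = out Q (rf w hw) := by
  have hs : s ≠ 0 := by
    rintro rfl
    rw [zero_mul, zero_mul] at h
    exact hw h
  have h1 : Q (s • v) = Q w := by rw [QuadraticMap.map_smul, h]; rfl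
  have h2 : Q (s • v) ≠ 0 := by rw [h1]; exact hw
  rw [← out_rf_of_eq hG h2 hw h1]
  congr 1
  rw [rf, rf]
  congr 1
  apply Subtype.ext
  exact (refl_smul hv hs h2).symm

/-- If all reflections have class `1` or `r`, the same holds for all isometries. -/
theorem out_ofO_mem [FiniteDimensional F V] (hG : Good Q) {R : Subgroup (Cfsg.Out (P Q))}
    (h : ∀ (w : V) (hw : Q w ≠ 0), out Q (rf w hw) ∈ R) (g : O Q) : out Q (ofO Q g) ∈ R := by
  have key : O Q ≤ (R.comap ((out Q).comp (ofO Q))).map (O Q).subtype := by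
    conv_lhs => rw [O_eq_closure hG.nondeg]
    rw [Subgroup.closure_le]
    rintro _ (⟨v, hv, rfl⟩ | ⟨u, w, hu, hw, rfl⟩)
    · exact ⟨⟨_, refl_mem_O hv⟩, h v hv, rfl⟩
    · refine ⟨⟨_, siegel_mem_O hu hw⟩, ?_, rfl⟩
      show out Q (ofO Q _) ∈ R
      rw [out_ofO_of_mem (siegel_mem_E hu hw)]
      exact R.one_mem
  obtain ⟨g', hg', he⟩ := key g.2
  have : g' = g := Subtype.ext he
  rw [← this]
  exact hg'

/-- A similitude with multiplier `1` is an isometry. -/
theorem exists_ofO {M : Gam Q} (h : IsSS Q (RingEquiv.refl F) 1 M.1) : ∃ g : O Q, ofO Q g = M := by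
  obtain ⟨g, hg⟩ := exists_permO h
  exact ⟨g, Subtype.ext hg⟩

/-- A similitude with square multiplier is an isometry times a scalar. -/
theorem exists_ofO_mul_scal {M : Gam Q} {c : F} (h : IsSS Q (RingEquiv.refl F) c M.1)
    (hc : IsSquare c) : ∃ (g : O Q) (a : Fˣ), M = ofO Q g * scal Q a := by
  obtain ⟨s, hs⟩ := hc
  have hs0 : s ≠ 0 := by
    rintro rfl
    exact h.ne (by rw [hs, mul_zero])
  let a : Fˣ := Units.mk0 s hs0
  have h1 := h.mul (isSS_scal (Q := Q) a⁻¹)
  have e1 : (RingEquiv.refl F).trans (RingEquiv.refl F) = RingEquiv.refl F := rfl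
  have e2 : c * (RingEquiv.refl F) (((a⁻¹ : Fˣ) : F) * ((a⁻¹ : Fˣ) : F)) = 1 := by
    show c * (((a⁻¹ : Fˣ) : F) * ((a⁻¹ : Fˣ) : F)) = 1
    rw [Units.val_inv_eq_inv_val, Units.val_mk0, hs]
    field_simp
  rw [e1, e2] at h1
  obtain ⟨g, hg⟩ := exists_ofO (M := M * scal Q a⁻¹) h1
  refine ⟨g, a, ?_⟩
  rw [hg, mul_assoc, ← map_mul, inv_mul_cancel, map_one, mul_one]

/-- If all reflections have the same class `r`, the group `D` consists of `1, r, δ, δ r`. -/
theorem D_cases [FiniteDimensional F V] (hG : Good Q) {v : V} (hv : Q v ≠ 0)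
    (hall : ∀ (w : V) (hw : Q w ≠ 0), out Q (rf w hw) = out Q (rf v hv)) {δ0 : Gam Q} {c0 : F}
    (hδ0 : IsSS Q (RingEquiv.refl F) c0 δ0.1)
    (hsq : ∀ c : F, c ≠ 0 → IsSquare c ∨ IsSquare (c0⁻¹ * c)) {x : Cfsg.Out (P Q)}
    (hx : x ∈ D hG) : x = 1 ∨ x = out Q (rf v hv) ∨ x = out Q δ0 ∨
      x = out Q δ0 * out Q (rf v hv) := by
  have hr : out Q (rf v hv) * out Q (rf v hv) = 1 := by rw [← map_mul, rf_mul_self, map_one]
  have hiso : ∀ g : O Q, out Q (ofO Q g) = 1 ∨ out Q (ofO Q g) = out Q (rf v hv) := by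
    intro g
    have h1 := out_ofO_mem hG (R := Subgroup.zpowers (out Q (rf v hv)))
      (fun w hw => by rw [hall w hw]; exact Subgroup.mem_zpowers _) g
    obtain ⟨k, hk⟩ := h1
    have hk' : out Q (rf v hv) ^ k = out Q (ofO Q g) := hk
    rw [← hk']
    have hr2 : out Q (rf v hv) ^ (2 : ℤ) = 1 := by rw [zpow_two]; exact hr
    rcases Int.even_or_odd k with h | h
    · left
      obtain ⟨j, hj⟩ := h.two_dvd
      rw [hj, zpow_mul, hr2, one_zpow]
    · right
      obtain ⟨j, hj⟩ := h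
      rw [hj, zpow_add, zpow_mul, hr2, one_zpow, zpow_one, one_mul]
  obtain ⟨M, hM, rfl⟩ := mem_D.1 hx
  obtain ⟨σ, c, hMc⟩ := M.2
  have hσ : σ = RingEquiv.refl F := by rw [← sg_eq hG hMc, hM]; rfl
  subst hσ
  rcases hsq c hMc.ne with h | h
  · obtain ⟨g, a, rfl⟩ := exists_ofO_mul_scal hMc h
    rw [map_mul, out_scal hG, mul_one]
    rcases hiso g with h1 | h1
    · left; exact h1
    · right; left; exact h1
  · have h1 := hδ0.inv.mul hMc
    have e1 : (RingEquiv.refl F).trans (RingEquiv.refl F).symm = RingEquiv.refl F := rfl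
    have e2 : (RingEquiv.refl F).symm c0⁻¹ * (RingEquiv.refl F).symm c = c0⁻¹ * c := rfl
    rw [e1, e2] at h1
    obtain ⟨g, a, hg⟩ := exists_ofO_mul_scal (M := δ0⁻¹ * M) h1 h
    have h2 : M = δ0 * (ofO Q g * scal Q a) := by rw [← hg, mul_inv_cancel_left]
    rw [h2, map_mul, map_mul, out_scal hG, mul_one]
    rcases hiso g with h3 | h3
    · right; right; left; rw [h3, mul_one]
    · right; right; right; rw [h3]

/-- If a similitude with nonsquare multiplier commutes with one reflection in the outer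
automorphism group, all reflections have the same class. -/
theorem rf_class_of_comm (hG : Good Q) {v : V} (hv : Q v ≠ 0) {δ0 : Gam Q} {c0 : F}
    (hδ0 : IsSS Q (RingEquiv.refl F) c0 δ0.1)
    (hsq : ∀ c : F, c ≠ 0 → IsSquare c ∨ IsSquare (c0⁻¹ * c))
    (hcomm : out Q δ0 * out Q (rf v hv) = out Q (rf v hv) * out Q δ0) (w : V) (hw : Q w ≠ 0) :
    out Q (rf w hw) = out Q (rf v hv) := by
  rcases hsq (Q w / Q v) (div_ne_zero hw hv) with h | h
  · obtain ⟨s, hs⟩ := h
    exact (out_rf_of_square hG hv hw (s := s) (by rw [← hs, div_mul_cancel₀ _ hv])).symm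
  · obtain ⟨s, hs⟩ := h
    have h1 : Q (δ0.1 v) = c0 * Q v := hδ0.form v
    have h2 : Q (δ0.1 v) ≠ 0 := Q_ne δ0 hv
    have hc := hδ0.ne
    have h3 : Q w = s * s * Q (δ0.1 v) := by
      rw [← hs, h1]; field_simp
    rw [← out_rf_of_square hG h2 hw h3, ← conj_rf δ0 hv h2, map_mul, map_mul, map_inv, hcomm,
      mul_inv_cancel_right]

end Cfsg.Agent.H989.OutOrth.Basic
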