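import Mathlib
import Cfsg.Agent.H989.OutOrth.Abstract

/-!
# Recognition of `S₃ × C_f` and `S₄ × C_f` from triality relations
-/

set_option autoImplicit false

namespace Cfsg.Agent.H989.OutOrth.SymFour

open Cfsg.Agent.H989.OutOrth.Abstract Cfsg.Agent.Lib.DihedralRecog

/-- A group of order 24 with a core-free subgroup of order 6 is the symmetric group of degree 4. -/
theorem perm_four {G : Type*} [Group G] [Finite G] (hG : Nat.card G = 24) (T : Subgroup G)
    (hT : Nat.card T = 6) (hcore : ∀ N : Subgroup G, N.Normal → N ≤ T → N = ⊥) :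
    Nonempty (G ≃* Equiv.Perm (Fin 4)) := by
  have h1 : T.index = 4 := by
    have := Subgroup.card_mul_index T
    rw [hG, hT] at this
    omega
  have h2 : Nat.card (G ⧸ T) = 4 := h1
  have hker : (MulAction.toPermHom G (G ⧸ T)).ker = ⊥ := by
    rw [← Subgroup.normalCore_eq_ker]
    exact hcore _ (Subgroup.normalCore_normal T) (Subgroup.normalCore_le T)
  have hinj : Function.Injective (MulAction.toPermHom G (G ⧸ T)) :=
    (MonoidHom.ker_eq_bot_iff _).1 hker
  obtain ⟨e⟩ : Nonempty ((G ⧸ T) ≃ Fin 4) := by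
    have : Finite (G ⧸ T) := inferInstance
    exact ⟨(Finite.equivFin _).trans (finCongr h2)⟩
  let ψ : G →* Equiv.Perm (Fin 4) :=
    (Equiv.permCongrHom e).toMonoidHom.comp (MulAction.toPermHom G (G ⧸ T))
  have hψ : Function.Injective ψ := (Equiv.permCongrHom e).injective.comp hinj
  have hbij : Function.Bijective ψ := by
    refine hψ.bijective_of_nat_card_le ?_
    rw [hG, Nat.card_eq_fintype_card, Fintype.card_perm, Fintype.card_fin]
    decide
  exact ⟨MulEquiv.ofBijective ψ hbij⟩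

section

variable {H : Type*} [Group H]

/-- An extension of a group of order 4 by a faithful complement of order 6. -/
theorem s4_hom [Finite H] {A T : Subgroup H} (hA : Nat.card A = 4)
    (hAc : ∀ a ∈ A, ∀ b ∈ A, a * b = b * a) (hT : Nat.card T = 6)
    (hnorm : ∀ t ∈ T, ∀ a ∈ A, t * a * t⁻¹ ∈ A)
    (hfaith : ∀ t ∈ T, (∀ a ∈ A, t * a = a * t) → t = 1) :
    ∃ ι : Equiv.Perm (Fin 4) →* H, Function.Injective ι ∧ ∀ x, ι x ∈ A ⊔ T := by
  have hdisj : ∀ x ∈ A, x ∈ T → x = 1 := fun x hxA hxT => hfaith x hxT fun a ha => hAc x hxA a ha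
  let K : Subgroup H :=
    { carrier := {x | ∃ a ∈ A, ∃ t ∈ T, x = a * t}
      mul_mem' := by
        rintro _ _ ⟨a, ha, t, ht, rfl⟩ ⟨b, hb, s, hs, rfl⟩
        refine ⟨a * (t * b * t⁻¹), A.mul_mem ha (hnorm t ht b hb), t * s, T.mul_mem ht hs, ?_⟩
        group
      one_mem' := ⟨1, A.one_mem, 1, T.one_mem, by rw [one_mul]⟩
      inv_mem' := by
        rintro _ ⟨a, ha, t, ht, rfl⟩
        refine ⟨t⁻¹ * a⁻¹ * t⁻¹⁻¹, hnorm _ (T.inv_mem ht) _ (A.inv_mem ha), t⁻¹, T.inv_mem ht, ?_⟩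
        group }
  have hAK : A ⊔ T ≤ K := by
    apply sup_le
    · intro a ha; exact ⟨a, ha, 1, T.one_mem, by rw [mul_one]⟩
    · intro t ht; exact ⟨1, A.one_mem, t, ht, by rw [one_mul]⟩
  have hcompl : Subgroup.IsComplement' (A.subgroupOf (A ⊔ T)) (T.subgroupOf (A ⊔ T)) := by
    apply Subgroup.isComplement'_of_disjoint_and_mul_eq_univ
    · rw [disjoint_iff, eq_bot_iff]
      rintro ⟨x, hx⟩ ⟨h1, h2⟩
      rw [Subgroup.mem_bot]
      exact Subtype.ext (hdisj x (Subgroup.mem_subgroupOf.1 h1) (Subgroup.mem_subgroupOf.1 h2))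
    · rw [Set.eq_univ_iff_forall]
      rintro ⟨x, hx⟩
      obtain ⟨a, ha, t, ht, rfl⟩ := hAK hx
      exact ⟨⟨a, Subgroup.mem_sup_left ha⟩, Subgroup.mem_subgroupOf.2 ha,
        ⟨t, Subgroup.mem_sup_right ht⟩, Subgroup.mem_subgroupOf.2 ht, rfl⟩
  have hA' : Nat.card (A.subgroupOf (A ⊔ T)) = 4 := by
    rw [← hA]
    exact Nat.card_congr (Subgroup.subgroupOfEquivOfLe le_sup_left).toEquiv
  have hT' : Nat.card (T.subgroupOf (A ⊔ T)) = 6 := by
    rw [← hT]
    exact Nat.card_congr (Subgroup.subgroupOfEquivOfLe le_sup_right).toEquiv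
  have hcard : Nat.card ↥(A ⊔ T) = 24 := by
    rw [← hcompl.card_mul, hA', hT']
  obtain ⟨e⟩ := perm_four hcard (T.subgroupOf (A ⊔ T)) hT' (by
    intro N hN hNT
    rw [eq_bot_iff]
    rintro ⟨t, htS⟩ ht
    rw [Subgroup.mem_bot]
    apply Subtype.ext
    have htT : t ∈ T := Subgroup.mem_subgroupOf.1 (hNT ht)
    refine hfaith t htT fun a ha => ?_
    -- the commutator lies in `A` and in `N`
    have h1 : t * a * t⁻¹ * a⁻¹ ∈ A := A.mul_mem (hnorm t htT a ha) (A.inv_mem ha)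
    have h2 : (⟨t, htS⟩ : ↥(A ⊔ T)) * (⟨a, Subgroup.mem_sup_left ha⟩ * ⟨t, htS⟩⁻¹ *
        ⟨a, Subgroup.mem_sup_left ha⟩⁻¹) ∈ N :=
      N.mul_mem ht (hN.conj_mem _ (N.inv_mem ht) _)
    have h3 : t * (a * t⁻¹ * a⁻¹) ∈ T := Subgroup.mem_subgroupOf.1 (hNT h2)
    have h4 : t * (a * t⁻¹ * a⁻¹) = t * a * t⁻¹ * a⁻¹ := by group
    rw [h4] at h3
    have h5 := hdisj _ h1 h3
    calc t * a = t * a * t⁻¹ * a⁻¹ * (a * t) := by group
      _ = a * t := by rw [h5, one_mul])
  exact ⟨(A ⊔ T).subtype.comp e.symm.toMonoidHom,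
    (A ⊔ T).subtype_injective.comp e.symm.injective, fun x => (e.symm x).2⟩

/-- The elements of the dihedral group of order 6 generated by `ρ` and `k`. -/
theorem dih3 {ρ k : H} (hρ3 : ρ ^ 3 = 1) (hk : k * k = 1) (hkρ : k * ρ * k⁻¹ = ρ⁻¹) (hρ : ρ ≠ 1) :
    ∃ e : DihedralGroup 3 →* H, Function.Injective e ∧
      ∀ x ∈ e.range, ∃ i : ℕ, i < 3 ∧ (x = ρ ^ i ∨ x = k * ρ ^ i) := by
  have hord : orderOf ρ = 3 := orderOf_eq_prime hρ3 hρ
  have hkn : k ∉ Subgroup.zpowers ρ := by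
    rintro ⟨i, hi⟩
    have hi' : ρ ^ i = k := hi
    have h1 : Commute k ρ := by rw [← hi']; exact (Commute.refl ρ).zpow_left i
    have h2 : k * ρ * k⁻¹ = ρ := by rw [h1.eq, mul_inv_cancel_right]
    rw [h2] at hkρ
    apply hρ
    have h3 : ρ ^ 2 = 1 := by rw [pow_two]; nth_rewrite 1 [hkρ]; rw [inv_mul_cancel]
    calc ρ = ρ ^ 3 * (ρ ^ 2)⁻¹ := by rw [pow_succ ρ 2]; group
      _ = 1 := by rw [hρ3, h3, inv_one, one_mul]
  refine ⟨dihedralHom ρ k hρ3 hk hkρ, dihedralHom_injective ρ k hρ3 hk hkρ hord hkn, ?_⟩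
  rintro _ ⟨x | x, rfl⟩
  · refine ⟨x.val, ZMod.val_lt x, Or.inl ?_⟩
    rw [dihedralHom_r, ← zpw_natCast ρ hρ3, ZMod.natCast_zmod_val]
  · refine ⟨x.val, ZMod.val_lt x, Or.inr ?_⟩
    rw [dihedralHom_sr, ← zpw_natCast ρ hρ3, ZMod.natCast_zmod_val]

theorem dihedral_three : Nonempty (Equiv.Perm (Fin 3) ≃* DihedralGroup 3) := by
  have h1 : (finRotate 3) ^ 3 = 1 := by decide
  have h2 : Equiv.swap (0 : Fin 3) 1 * Equiv.swap (0 : Fin 3) 1 = 1 := by decide
  have h3 : Equiv.swap (0 : Fin 3) 1 * finRotate 3 * (Equiv.swap (0 : Fin 3) 1)⁻¹ =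
      (finRotate 3)⁻¹ := by decide
  obtain ⟨e, he, -⟩ := dih3 h1 h2 h3 (by decide)
  have hbij : Function.Bijective e := by
    refine he.bijective_of_nat_card_le ?_
    rw [DihedralGroup.nat_card, Nat.card_eq_fintype_card, Fintype.card_perm, Fintype.card_fin]
    decide
  exact ⟨(MulEquiv.ofBijective e hbij).symm⟩

/-- `S₃ × C_f` from triality relations. -/
theorem s3_prod [Finite H] {f : ℕ} (hf : 0 < f) (hcard : Nat.card H = 6 * f) {ρ k φ : H}
    (hρ3 : ρ ^ 3 = 1) (hk : k * k = 1) (hkρ : k * ρ * k⁻¹ = ρ⁻¹) (hρ : ρ ≠ 1)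
    (hφρ : φ * ρ = ρ * φ) (hφk : φ * k = k * φ) (hφ : φ ^ f = 1)
    (hint : ∀ j : ℕ, φ ^ j = 1 → f ∣ j) :
    Nonempty (H ≃* Equiv.Perm (Fin 3) × Multiplicative (ZMod f)) := by
  obtain ⟨e, he, hr⟩ := dih3 hρ3 hk hkρ hρ
  obtain ⟨g⟩ := dihedral_three
  have hcomm : ∀ d, e d * φ = φ * e d := by
    intro d
    obtain ⟨i, -, h | h⟩ := hr (e d) ⟨d, rfl⟩
    · rw [h]; exact ((show Commute φ ρ from hφρ).pow_right i).symm
    · rw [h, mul_assoc, ← ((show Commute φ ρ from hφρ).pow_right i).eq, ← mul_assoc, ← hφk,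
        mul_assoc]
  refine nonempty_prod_of_hom (e.comp g.toMonoidHom) (he.comp g.injective) hf hφ
    (fun d => hcomm _) ?_ ?_
  · rw [hcard, Nat.card_eq_fintype_card, Fintype.card_perm, Fintype.card_fin]
    exact le_of_eq rfl
  · intro j d hj
    have hj' : φ ^ j = e (g d) := hj
    have hcen : ∀ x, g d * x = x * g d := by
      intro x
      apply he
      rw [map_mul, map_mul, ← hj']
      exact ((show Commute (e x) φ from hcomm x).pow_right j).symm
    have h1 : ∀ y : DihedralGroup 3, (∀ x, y * x = x * y) → y = 1 := by decide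
    apply hint
    rw [hj', h1 _ hcen, map_one]

/-- `S₄ × C_f` from triality relations. -/
theorem s4_prod [Finite H] {f : ℕ} (hf : 0 < f) (hcard : Nat.card H = 24 * f) {ρ k z φ : H}
    (hρ3 : ρ ^ 3 = 1) (hk : k * k = 1) (hkρ : k * ρ * k⁻¹ = ρ⁻¹) (hz : z * z = 1) (hz1 : z ≠ 1)
    (hzk : k * z = z * k) (hkz : k * (ρ * z * ρ⁻¹) * k⁻¹ = z * (ρ * z * ρ⁻¹))
    (hφρ : φ * ρ = ρ * φ) (hφk : φ * k = k * φ) (hφz : φ * z = z * φ) (hφ : φ ^ f = 1)
    (hint : ∀ j : ℕ, φ ^ j = 1 → f ∣ j) :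
    Nonempty (H ≃* Equiv.Perm (Fin 4) × Multiplicative (ZMod f)) := by
  obtain ⟨y, hy⟩ : ∃ y, y = ρ * z * ρ⁻¹ := ⟨_, rfl⟩
  rw [← hy] at hkz
  have hρρ : ρ⁻¹ = ρ * ρ := by
    rw [inv_eq_iff_mul_eq_one, ← mul_assoc, ← pow_two, ← pow_succ]; exact hρ3
  have hy2 : y * y = 1 := by
    have : y * y = ρ * (z * z) * ρ⁻¹ := by rw [hy]; group
    rw [this, hz]; group
  -- `ρ y ρ⁻¹ = z y`
  have hkk : k⁻¹ = k := inv_eq_of_mul_eq_one_left hk
  have hρy : ρ * y * ρ⁻¹ = z * y := by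
    have h1 : k * ρ = ρ⁻¹ * k := by rw [← hkρ]; group
    have h2 : ρ * y * ρ⁻¹ = ρ⁻¹ * z * ρ := by
      rw [hy]
      calc ρ * (ρ * z * ρ⁻¹) * ρ⁻¹ = (ρ * ρ) * z * (ρ * ρ)⁻¹ := by group
        _ = ρ⁻¹ * z * ρ := by rw [← hρρ, inv_inv]
    have h3 : k * y * k⁻¹ = ρ⁻¹ * z * ρ := by
      rw [hy]
      have h4 : ρ⁻¹ * k⁻¹ = k⁻¹ * ρ := by
        have : (k * ρ)⁻¹ = (ρ⁻¹ * k)⁻¹ := by rw [h1]
        rw [mul_inv_rev, mul_inv_rev, inv_inv] at this
        exact this
      calc k * (ρ * z * ρ⁻¹) * k⁻¹ = (k * ρ) * z * (ρ⁻¹ * k⁻¹) := by group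
        _ = (ρ⁻¹ * k) * z * (k⁻¹ * ρ) := by rw [h1, h4]
        _ = ρ⁻¹ * (k * z) * k⁻¹ * ρ := by group
        _ = ρ⁻¹ * z * ρ := by rw [hzk]; group
    rw [h2, ← h3, hkz]
  have hzy2 : (z * y) * (z * y) = 1 := by
    rw [← hρy]
    have : (ρ * y * ρ⁻¹) * (ρ * y * ρ⁻¹) = ρ * (y * y) * ρ⁻¹ := by group
    rw [this, hy2]; group
  have hyi : y⁻¹ = y := inv_eq_of_mul_eq_one_left hy2
  have hzi : z⁻¹ = z := inv_eq_of_mul_eq_one_left hz
  have hzy : z * y = y * z := by
    have h1 : (z * y)⁻¹ = z * y := inv_eq_of_mul_eq_one_left hzy2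
    rw [mul_inv_rev, hyi, hzi] at h1
    exact h1.symm
  have hy1 : y ≠ 1 := by
    rintro rfl
    apply hz1
    have h1 : z = ρ⁻¹ * (ρ * z * ρ⁻¹) * ρ := by group
    rw [h1, ← hy]; group
  have hne : z ≠ y := by
    intro h
    rw [← h, hz] at hρy
    apply hz1
    have h1 : z = ρ⁻¹ * (ρ * z * ρ⁻¹) * ρ := by group
    rw [h1, hρy]; group
  have hz2' : z ^ 2 = 1 := by rw [pow_two]; exact hz
  have hy2' : y ^ 2 = 1 := by rw [pow_two]; exact hy2
  obtain ⟨ι, hι, hιc⟩ := four_injective hz2' hy2' hzy hz1 hy1 hne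
  have hzr : z ∈ ι.range ∧ y ∈ ι.range := by
    -- both are in the range since the range has four elements
    have h1 : (ι.range : Set H) ⊆ {1, z, y, z * y} := by
      rintro _ ⟨x, rfl⟩
      rcases hιc x with h | h | h | h <;> rw [h] <;> simp
    have h2 : Nat.card ι.range = 4 := by
      rw [← Nat.card_congr (MonoidHom.ofInjective hι).toEquiv, Nat.card_prod,
        Nat.card_congr Multiplicative.toAdd, Nat.card_zmod]
    have h3 : ({1, z, y, z * y} : Set H).ncard ≤ (ι.range : Set H).ncard := by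
      have h4 : (ι.range : Set H).ncard = 4 := by rw [← Nat.card_coe_set_eq]; exact h2
      rw [h4]
      refine (Set.ncard_insert_le _ _).trans ?_
      have h4 : ({z, y, z * y} : Set H).ncard ≤ 3 := by
        refine (Set.ncard_insert_le _ _).trans ?_
        have h5 : ({y, z * y} : Set H).ncard ≤ 2 := by
          refine (Set.ncard_insert_le _ _).trans ?_
          rw [Set.ncard_singleton]
        omega
      omega
    have h4 := Set.eq_of_subset_of_ncard_le h1 h3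
    constructor
    · show z ∈ (ι.range : Set H)
      rw [h4]; simp
    · show y ∈ (ι.range : Set H)
      rw [h4]; simp
  obtain ⟨hzA, hyA⟩ := hzr
  have hAcases : ∀ a ∈ ι.range, a = 1 ∨ a = z ∨ a = y ∨ a = z * y := by
    rintro _ ⟨x, rfl⟩
    exact hιc x
  have hAcard : Nat.card ι.range = 4 := by
    rw [← Nat.card_congr (MonoidHom.ofInjective hι).toEquiv, Nat.card_prod,
      Nat.card_congr Multiplicative.toAdd, Nat.card_zmod]
  have hAcomm : ∀ a ∈ ι.range, ∀ b ∈ ι.range, a * b = b * a := by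
    rintro _ ⟨x, rfl⟩ _ ⟨y, rfl⟩
    rw [← map_mul, ← map_mul, mul_comm]
  have hρ : ρ ≠ 1 := by
    rintro rfl
    apply hne
    rw [hy]; group
  obtain ⟨e, he, hr⟩ := dih3 hρ3 hk hkρ hρ
  have hTcard : Nat.card e.range = 6 := by
    rw [← Nat.card_congr (MonoidHom.ofInjective he).toEquiv, DihedralGroup.nat_card]
  -- conjugation by `ρ` and `k`
  have hρA : ∀ a ∈ ι.range, ρ * a * ρ⁻¹ ∈ ι.range := by
    intro a ha
    rcases hAcases a ha with rfl | rfl | rfl | rfl
    · have : ρ * 1 * ρ⁻¹ = 1 := by group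
      rw [this]; exact one_mem _
    · rw [← hy]; exact hyA
    · rw [hρy]; exact mul_mem hzA hyA
    · have : ρ * (z * y) * ρ⁻¹ = (ρ * z * ρ⁻¹) * (ρ * y * ρ⁻¹) := by group
      rw [this, ← hy, hρy]; exact mul_mem hyA (mul_mem hzA hyA)
  have hkA : ∀ a ∈ ι.range, k * a * k⁻¹ ∈ ι.range := by
    intro a ha
    rcases hAcases a ha with rfl | rfl | rfl | rfl
    · have : k * 1 * k⁻¹ = 1 := by group
      rw [this]; exact one_mem _
    · rw [hzk, mul_inv_cancel_right]; exact hzA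
    · rw [hkz]; exact mul_mem hzA hyA
    · have : k * (z * y) * k⁻¹ = (k * z * k⁻¹) * (k * y * k⁻¹) := by group
      rw [this, hkz, hzk, mul_inv_cancel_right]; exact mul_mem hzA (mul_mem hzA hyA)
  have hρiA : ∀ i : ℕ, ∀ a ∈ ι.range, ρ ^ i * a * (ρ ^ i)⁻¹ ∈ ι.range := by
    intro i
    induction i with
    | zero => intro a ha; rw [pow_zero, inv_one, one_mul, mul_one]; exact ha
    | succ i ih =>
      intro a ha
      have : ρ ^ (i + 1) * a * (ρ ^ (i + 1))⁻¹ = ρ * (ρ ^ i * a * (ρ ^ i)⁻¹) * ρ⁻¹ := by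
        rw [pow_succ' ρ i]; group
      rw [this]
      exact hρA _ (ih a ha)
  have hnorm : ∀ t ∈ e.range, ∀ a ∈ ι.range, t * a * t⁻¹ ∈ ι.range := by
    intro t ht a ha
    obtain ⟨i, -, rfl | rfl⟩ := hr t ht
    · exact hρiA i a ha
    · have : k * ρ ^ i * a * (k * ρ ^ i)⁻¹ = k * (ρ ^ i * a * (ρ ^ i)⁻¹) * k⁻¹ := by
        rw [mul_inv_rev]; group
      rw [this]
      exact hkA _ (hρiA i a ha)
  have hρz : ρ * z = y * ρ := by rw [hy]; group
  have hρy' : ρ * y = z * y * ρ := by rw [← hρy]; group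
  have hky : k * y = z * y * k := by rw [← hkz]; group
  have hzyz : z * (z * y) = y := by rw [← mul_assoc, hz, one_mul]
  have hfaith : ∀ t ∈ e.range, (∀ a ∈ ι.range, t * a = a * t) → t = 1 := by
    intro t ht hc
    have hcz := hc z hzA
    have hcy := hc y hyA
    obtain ⟨i, hi, rfl | rfl⟩ := hr t ht
    · interval_cases i
      · rw [pow_zero]
      · exfalso
        rw [pow_one, hρz] at hcz
        exact hne (mul_right_cancel hcz).symm
      · exfalso
        -- `ρ² z = ρ y ρ = z y ρ²`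
        have h1 : ρ ^ 2 * z = z * y * ρ ^ 2 := by
          rw [pow_two, mul_assoc, hρz, ← mul_assoc, hρy', mul_assoc]
        rw [h1] at hcz
        have h2 := mul_right_cancel hcz
        exact hy1 (mul_eq_left.1 h2)
    · exfalso
      interval_cases i
      · rw [pow_zero, mul_one, hky] at hcy
        have h2 := mul_right_cancel hcy
        exact hz1 (mul_eq_right.1 h2)
      · have h1 : k * ρ ^ 1 * z = z * y * (k * ρ ^ 1) := by
          rw [pow_one, mul_assoc, hρz, ← mul_assoc, hky, mul_assoc]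
        rw [h1] at hcz
        have h2 := mul_right_cancel hcz
        exact hy1 (mul_eq_left.1 h2)
      · have h1 : k * ρ ^ 2 * z = y * (k * ρ ^ 2) := by
          calc k * ρ ^ 2 * z = k * (ρ ^ 2 * z) := by group
            _ = k * (z * y * ρ ^ 2) := by
              rw [pow_two, mul_assoc, hρz, ← mul_assoc ρ, hρy']; group
            _ = (k * z) * y * ρ ^ 2 := by group
            _ = z * (k * y) * ρ ^ 2 := by rw [hzk]; group
            _ = (z * (z * y)) * (k * ρ ^ 2) := by rw [hky]; group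
            _ = y * (k * ρ ^ 2) := by rw [hzyz]
        rw [h1] at hcz
        exact hne (mul_right_cancel hcz).symm
  obtain ⟨θ, hθ, hθr⟩ := s4_hom hAcard hAcomm hTcard hnorm hfaith
  have hle : ι.range ⊔ e.range ≤ Subgroup.centralizer {φ} := by
    apply sup_le
    · intro a ha
      rw [Subgroup.mem_centralizer_singleton_iff]
      rcases hAcases a ha with rfl | rfl | rfl | rfl
      · rw [one_mul, mul_one]
      · exact hφz.symm
      · rw [hy]
        have h1 : Commute φ ρ := hφρ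
        have h2 : Commute φ z := hφz
        exact ((h1.mul_right h2).mul_right h1.inv_right).symm
      · rw [hy]
        have h1 : Commute φ ρ := hφρ
        have h2 : Commute φ z := hφz
        exact (h2.mul_right ((h1.mul_right h2).mul_right h1.inv_right)).symm
    · intro t ht
      rw [Subgroup.mem_centralizer_singleton_iff]
      have h1 : Commute φ ρ := hφρ
      have h2 : Commute φ k := hφk
      obtain ⟨i, -, rfl | rfl⟩ := hr t ht
      · exact (h1.pow_right i).symm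
      · exact (h2.mul_right (h1.pow_right i)).symm
  have hcomm : ∀ d, θ d * φ = φ * θ d := fun d =>
    Subgroup.mem_centralizer_singleton_iff.1 (hle (hθr d))
  refine nonempty_prod_of_hom θ hθ hf hφ hcomm ?_ ?_
  · rw [hcard, Nat.card_eq_fintype_card, Fintype.card_perm, Fintype.card_fin]
    exact le_of_eq rfl
  · intro j d hj
    have hcen : ∀ x, d * x = x * d := by
      intro x
      apply hθ
      rw [map_mul, map_mul, ← hj]
      exact ((show Commute (θ x) φ from hcomm x).pow_right j).symm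
    have h1 : ∀ y : Equiv.Perm (Fin 4), (∀ x, y * x = x * y) → y = 1 := by decide
    apply hint
    rw [hj, h1 _ hcen, map_one]

end

end Cfsg.Agent.H989.OutOrth.SymFour
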