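import Mathlib
import Cfsg.Agent.ClassicalGeometry.SymmNormalForm
import Cfsg.Agent.H989.OutOrth.Forms

/-!
# The group `D` of classes of similitudes when its order is 2, 4 or 8
-/

set_option autoImplicit false

namespace Cfsg.Agent.H989.OutOrth.Small

open QuadraticMap Cfsg.Agent.LieClassical.OrthCore Cfsg.Agent.LieClassical.OrthTrans
  Cfsg.Agent.LieClassical.OrthSimple Cfsg.Agent.ClassicalGeometry.OrthSemi
  Cfsg.Agent.ClassicalGeometry.OrthSemiCount Cfsg.Agent.ClassicalGeometry.OrthAut1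
  Cfsg.Agent.H989.OutOrth.Abstract Cfsg.Agent.H989.OutOrth.Basic

section Card

variable {H : Type*} [Group H]

theorem card_le_four {D : Subgroup H} {a b c d : H}
    (h : ∀ x ∈ D, x = a ∨ x = b ∨ x = c ∨ x = d) : Nat.card D ≤ 4 := by
  have h1 : (D : Set H) ⊆ {a, b, c, d} := by
    intro x hx
    simpa using h x hx
  have h2 : (D : Set H).ncard ≤ ({a, b, c, d} : Set H).ncard :=
    Set.ncard_le_ncard h1 (by simp)
  have h3 : ({a, b, c, d} : Set H).ncard ≤ 4 := by
    refine (Set.ncard_insert_le _ _).trans ?_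
    have h4 : ({b, c, d} : Set H).ncard ≤ 3 := by
      refine (Set.ncard_insert_le _ _).trans ?_
      have h5 : ({c, d} : Set H).ncard ≤ 2 := by
        refine (Set.ncard_insert_le _ _).trans ?_
        rw [Set.ncard_singleton]
      omega
    omega
  rw [Set.ncard_def, ← Nat.card_coe_set_eq] at h2
  exact h2.trans h3

theorem card_le_two {D : Subgroup H} {a b : H}
    (h : ∀ x ∈ D, x = a ∨ x = b) : Nat.card D ≤ 2 := by
  have h1 : (D : Set H) ⊆ {a, b} := by
    intro x hx
    simpa using h x hx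
  have h2 : (D : Set H).ncard ≤ ({a, b} : Set H).ncard :=
    Set.ncard_le_ncard h1 (by simp)
  have h3 : ({a, b} : Set H).ncard ≤ 2 := by
    refine (Set.ncard_insert_le _ _).trans ?_
    rw [Set.ncard_singleton]
  rw [Set.ncard_def, ← Nat.card_coe_set_eq] at h2
  exact h2.trans h3

end Card

variable {F V : Type*} [Field F] [AddCommGroup V] [Module F V] {Q : QuadraticForm F V}

/-- Over a finite field of odd characteristic the nonsquares form one coset. -/
theorem sq_cases [Finite F] {c0 : F} (h : ¬ IsSquare c0) (c : F) :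
    IsSquare c ∨ IsSquare (c0⁻¹ * c) := by
  by_cases hc : IsSquare c
  · exact Or.inl hc
  · right
    refine Cfsg.Agent.ClassicalGeometry.SymmNormalForm.isSquare_div_of_not ?_ hc
    rintro ⟨s, hs⟩
    exact h ⟨s⁻¹, by rw [← mul_inv, ← hs, inv_inv]⟩

/-- `|D| = 8`: a similitude with nonsquare multiplier does not commute with a reflection. -/
theorem not_comm_of_eight [FiniteDimensional F V] (hG : Good Q) (h8 : Nat.card (D hG) = 8) {v : V}
    (hv : Q v ≠ 0) {δ0 : Gam Q} {c0 : F} (hδ0 : IsSS Q (RingEquiv.refl F) c0 δ0.1)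
    (hsq : ∀ c : F, c ≠ 0 → IsSquare c ∨ IsSquare (c0⁻¹ * c)) :
    out Q δ0 * out Q (rf v hv) ≠ out Q (rf v hv) * out Q δ0 := by
  intro hcomm
  have hall := rf_class_of_comm hG hv hδ0 hsq hcomm
  have h1 := card_le_four (D := D hG) fun x hx => D_cases hG hv hall hδ0 hsq hx
  omega

/-- `|D| = 4`. -/
theorem facts_of_four [FiniteDimensional F V] (hG : Good Q) (h4 : Nat.card (D hG) = 4) {v : V}
    (hv : Q v ≠ 0) {δ0 : Gam Q} {c0 : F} (hδ0 : IsSS Q (RingEquiv.refl F) c0 δ0.1)
    (hsq : ∀ c : F, c ≠ 0 → IsSquare c ∨ IsSquare (c0⁻¹ * c)) :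
    (∀ (w : V) (hw : Q w ≠ 0), out Q (rf w hw) = out Q (rf v hv)) ∧
    (∀ x ∈ D hG, x = 1 ∨ x = out Q (rf v hv) ∨ x = out Q δ0 ∨ x = out Q δ0 * out Q (rf v hv)) ∧
    out Q (rf v hv) ≠ 1 ∧ out Q δ0 ≠ 1 ∧ out Q δ0 ≠ out Q (rf v hv) ∧
    (∀ x ∈ D hG, ∀ y ∈ D hG, x * y = y * x) := by
  have hcommD : ∀ x ∈ D hG, ∀ y ∈ D hG, x * y = y * x := by
    intro x hx y hy
    have := IsPGroup.isMulCommutative_of_card_eq_prime_sq (p := 2) (G := D hG)
      (by rw [h4]; norm_num)
    exact congrArg Subtype.val (this.is_comm.comm (⟨x, hx⟩ : D hG) ⟨y, hy⟩)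
  have hr : out Q (rf v hv) ∈ D hG := out_mem_D.2 (sg_rf hG hv)
  have hδ : out Q δ0 ∈ D hG := out_mem_D.2 (sg_eq hG hδ0)
  have hall := rf_class_of_comm hG hv hδ0 hsq (hcommD _ hδ _ hr)
  have hcases := fun x (hx : x ∈ D hG) => D_cases hG hv hall hδ0 hsq hx
  have hr2 : out Q (rf v hv) * out Q (rf v hv) = 1 := by rw [← map_mul, rf_mul_self, map_one]
  refine ⟨hall, hcases, ?_, ?_, ?_, hcommD⟩
  · intro h
    have h1 : Nat.card (D hG) ≤ 2 := card_le_two (a := 1) (b := out Q δ0) fun x hx => by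
      rcases hcases x hx with h1 | h1 | h1 | h1
      · exact Or.inl h1
      · left; rw [h1, h]
      · exact Or.inr h1
      · right; rw [h1, h, mul_one]
    omega
  · intro h
    have h1 : Nat.card (D hG) ≤ 2 := card_le_two (a := 1) (b := out Q (rf v hv)) fun x hx => by
      rcases hcases x hx with h1 | h1 | h1 | h1
      · exact Or.inl h1
      · exact Or.inr h1
      · left; rw [h1, h]
      · right; rw [h1, h, one_mul]
    omega
  · intro h
    have h1 : Nat.card (D hG) ≤ 2 := card_le_two (a := 1) (b := out Q (rf v hv)) fun x hx => by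
      rcases hcases x hx with h1 | h1 | h1 | h1
      · exact Or.inl h1
      · exact Or.inr h1
      · right; rw [h1, h]
      · left; rw [h1, h, hr2]
    omega

/-- `|D| = 2` in even characteristic. -/
theorem facts_of_two [FiniteDimensional F V] (hG : Good Q) (h2 : Nat.card (D hG) = 2) {v : V}
    (hv : Q v ≠ 0) (hsq : ∀ c : F, IsSquare c) :
    (∀ x ∈ D hG, x = 1 ∨ x = out Q (rf v hv)) ∧ out Q (rf v hv) ≠ 1 := by
  have hall : ∀ (w : V) (hw : Q w ≠ 0), out Q (rf w hw) = out Q (rf v hv) := by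
    intro w hw
    obtain ⟨s, hs⟩ := hsq (Q w / Q v)
    exact (out_rf_of_square hG hv hw (s := s) (by rw [← hs, div_mul_cancel₀ _ hv])).symm
  have hcases : ∀ x ∈ D hG, x = 1 ∨ x = out Q (rf v hv) := by
    intro x hx
    have h1 : IsSS Q (RingEquiv.refl F) 1 (1 : Gam Q).1 :=
      ⟨one_ne_zero, fun _ _ => rfl, fun _ _ => rfl, fun _ => by rw [one_mul]; rfl⟩
    rcases D_cases hG hv hall h1 (fun c _ => Or.inl (hsq c)) hx with h3 | h3 | h3 | h3
    · exact Or.inl h3
    · exact Or.inr h3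
    · left; rw [h3, map_one]
    · right; rw [h3, map_one, one_mul]
  refine ⟨hcases, fun h => ?_⟩
  have h1 : Nat.card (D hG) ≤ 1 := by
    have h3 : D hG = ⊥ := by
      rw [eq_bot_iff]
      intro x hx
      rcases hcases x hx with h4 | h4
      · exact h4
      · rw [Subgroup.mem_bot, h4, h]
    rw [h3, Subgroup.card_bot]
  omega

end Cfsg.Agent.H989.OutOrth.Small
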