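import Mathlib
import Cfsg.Agent.ClassicalGeometry.Triality
import Cfsg.Agent.ClassicalGeometry.TrialityIndex
import Cfsg.Agent.H989.OutOrth.Plus

/-!
# Triality and semisimilitudes of the octonions

The triality automorphism `ρ` with `ρ ^ 3 = 1`, inverted by octonion conjugation, and its action on the
automorphisms induced by semisimilitudes.
-/

set_option autoImplicit false

namespace Cfsg.Agent.H989.OutOrth.Tri

open QuadraticMap Cfsg.Agent.LieClassical.QuadForms Cfsg.Agent.LieClassical.OrthCore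
  Cfsg.Agent.LieClassical.OrthTrans Cfsg.Agent.LieClassical.OrthSimple
  Cfsg.Agent.ClassicalGeometry.TrialityOct Cfsg.Agent.ClassicalGeometry.OrthAut1
  Cfsg.Agent.ClassicalGeometry.Triality Cfsg.Agent.ClassicalGeometry.OrthSemi
  Cfsg.Agent.ClassicalGeometry.OrthSemiCount
  Cfsg.Agent.H989.OutOrth.Abstract Cfsg.Agent.H989.OutOrth.Basic Cfsg.Agent.H989.OutOrth.Forms

variable {F : Type*} [Field F]

/-! ### The triality automorphism -/

theorem TriE.flip {g g₁ g₂ : V8 F ≃ₗ[F] V8 F} (h : TriE g g₁ g₂) :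
    TriE (kap F * g * kap F) (kap F * g₂ * kap F) (kap F * g₁ * kap F) := by
  refine ⟨⟨kap_conj_mem h.1.1, kap_conj_mem h.1.2.2, kap_conj_mem h.1.2.1⟩, fun x y => ?_⟩
  show oconj (g (oconj (omul x y))) = omul (oconj (g₂ (oconj x))) (oconj (g₁ (oconj y)))
  rw [oconj_omul, h.2, oconj_omul]

/-- The property of the triality automorphism. -/
def IsRho (ρ : MulAut (P (plusForm 4 F))) : Prop :=
  ∀ (g h : ↥(E (plusForm 4 F))) (g₁ g₂ : V8 F ≃ₗ[F] V8 F), TriE (g : V8 F ≃ₗ[F] V8 F) g₁ g₂ →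
    (h : V8 F ≃ₗ[F] V8 F) = kap F * g₁ * kap F →
      ρ (g : P (plusForm 4 F)) = (h : P (plusForm 4 F))

/-- Octonion conjugation as a semisimilitude. -/
def kapG (F : Type*) [Field F] : Gam (plusForm 4 F) := ofO _ ⟨kap F, kap_mem⟩

theorem kapG_apply (x : V8 F) : (kapG F).1 x = oconj x := rfl

theorem kapG_mul_kapG : kapG F * kapG F = 1 := by
  apply Subtype.ext
  ext x : 1
  exact oconj_oconj x

theorem exists_rho (hG : Good (plusForm 4 F)) : ∃ ρ : MulAut (P (plusForm 4 F)), IsRho ρ := by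
  obtain ⟨τ, hτ⟩ := exists_tau₁ hG
  refine ⟨Psi _ (kapG F) * τ, fun g h g₁ g₂ ht hh => ?_⟩
  have h1 := hτ g ⟨g₁, ht.1.2.1⟩ g₂ ht
  show Psi _ (kapG F) (τ (g : P (plusForm 4 F))) = _
  rw [h1, Psi_mk]
  congr 1
  apply Subtype.ext
  rw [coe_conjE, hh]
  ext x : 1
  rfl

section Rho

variable {ρ : MulAut (P (plusForm 4 F))}

theorem IsRho.sq (hρ : IsRho ρ) {g h : ↥(E (plusForm 4 F))}
    {g₁ g₂ : V8 F ≃ₗ[F] V8 F} (ht : TriE (g : V8 F ≃ₗ[F] V8 F) g₁ g₂)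
    (hh : (h : V8 F ≃ₗ[F] V8 F) = kap F * g₂ * kap F) :
    ρ (ρ (g : P (plusForm 4 F))) = (h : P (plusForm 4 F)) := by
  rw [hρ g ⟨kap F * g₁ * kap F, kap_conj_mem ht.1.2.1⟩ g₁ g₂ ht rfl]
  exact hρ _ h g₂ _ ht.rot hh

theorem IsRho.cube (hG : Good (plusForm 4 F)) (hρ : IsRho ρ) : ρ ^ 3 = 1 := by
  ext x
  obtain ⟨g, rfl⟩ := QuotientGroup.mk_surjective x
  obtain ⟨g₁, g₂, ht⟩ := exists_triple hG g.2
  show ρ (ρ (ρ (g : P (plusForm 4 F)))) = (g : P (plusForm 4 F))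
  rw [hρ.sq ht (h := ⟨kap F * g₂ * kap F, kap_conj_mem ht.1.2.2⟩) rfl]
  refine hρ _ g (kap F * g * kap F) _ ht.rot.rot ?_
  exact (kap_conj_conj _).symm

/-- Conjugation inverts `ρ`. -/
theorem IsRho.kap_inv (hG : Good (plusForm 4 F)) (hρ : IsRho ρ) :
    Psi _ (kapG F) * ρ * Psi _ (kapG F) = ρ⁻¹ := by
  have h3 : ρ⁻¹ = ρ * ρ := by
    rw [inv_eq_iff_mul_eq_one, ← mul_assoc, ← pow_two, ← pow_succ]; exact hρ.cube hG
  rw [h3]
  ext x
  obtain ⟨g, rfl⟩ := QuotientGroup.mk_surjective x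
  obtain ⟨g₁, g₂, ht⟩ := exists_triple hG g.2
  show Psi _ (kapG F) (ρ (Psi _ (kapG F) (g : P (plusForm 4 F)))) = ρ (ρ (g : P (plusForm 4 F)))
  rw [hρ.sq ht (h := ⟨kap F * g₂ * kap F, kap_conj_mem ht.1.2.2⟩) rfl, Psi_mk]
  have h4 : conjE (plusForm 4 F) (kapG F) g = ⟨kap F * g * kap F, kap_conj_mem g.2⟩ := by
    apply Subtype.ext
    rw [coe_conjE]
    ext x : 1
    rfl
  have h5 := hρ ⟨kap F * g * kap F, kap_conj_mem g.2⟩ ⟨g₂, ht.1.2.2⟩ _ _ (TriE.flip ht)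
    (kap_conj_conj _).symm
  rw [h4]
  refine (congrArg (Psi _ (kapG F)) h5).trans ?_
  rw [Psi_mk]
  congr 1

/-- A triple of semisimilitudes. -/
def TriG (M M₁ M₂ : Gam (plusForm 4 F)) : Prop :=
  ∀ x y, M.1 (omul x y) = omul (M₁.1 x) (M₂.1 y)

theorem TriG.conj {M M₁ M₂ : Gam (plusForm 4 F)} (hM : TriG M M₁ M₂) {g g₁ g₂ : V8 F ≃ₗ[F] V8 F}
    (ht : TriE g g₁ g₂) : TriE (conjLin M g) (conjLin M₁ g₁) (conjLin M₂ g₂) := by
  refine ⟨⟨conjLin_mem_E _ ht.1.1, conjLin_mem_E _ ht.1.2.1, conjLin_mem_E _ ht.1.2.2⟩,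
    fun x y => ?_⟩
  obtain ⟨x, rfl⟩ := M₁.1.surjective x
  obtain ⟨y, rfl⟩ := M₂.1.surjective y
  rw [← hM, conjLin_apply', conjLin_apply', conjLin_apply', ht.2, hM]

/-- The triality automorphism and semisimilitudes. -/
theorem IsRho.mul_Psi (hG : Good (plusForm 4 F)) (hρ : IsRho ρ) {M M₁ M₂ : Gam (plusForm 4 F)}
    (hM : TriG M M₁ M₂) : ρ * Psi _ M = Psi _ (kapG F * M₁ * kapG F) * ρ := by
  ext x
  obtain ⟨g, rfl⟩ := QuotientGroup.mk_surjective x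
  obtain ⟨g₁, g₂, ht⟩ := exists_triple hG g.2
  show ρ (Psi _ M (g : P (plusForm 4 F))) = Psi _ _ (ρ (g : P (plusForm 4 F)))
  rw [hρ g ⟨kap F * g₁ * kap F, kap_conj_mem ht.1.2.1⟩ g₁ g₂ ht rfl, Psi_mk, Psi_mk]
  refine hρ _ _ _ _ (hM.conj ht) ?_
  rw [coe_conjE]
  ext x : 1
  show (kapG F * M₁ * kapG F).1 (oconj (g₁ (oconj ((kapG F * M₁ * kapG F)⁻¹.1 x)))) =
    oconj (M₁.1 (g₁ (M₁⁻¹.1 (oconj x))))
  have h1 : (kapG F * M₁ * kapG F)⁻¹ = kapG F * M₁⁻¹ * kapG F := by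
    have h2 : (kapG F)⁻¹ = kapG F := inv_eq_of_mul_eq_one_left kapG_mul_kapG
    rw [mul_inv_rev, mul_inv_rev, h2, mul_assoc]
  rw [h1]
  show oconj (M₁.1 (oconj (oconj (g₁ (oconj (oconj (M₁⁻¹.1 (oconj x)))))))) =
    oconj (M₁.1 (g₁ (M₁⁻¹.1 (oconj x))))
  rw [oconj_oconj, oconj_oconj]

end Rho

/-! ### Nontriviality -/

/-- The triality automorphism is not induced by a semisimilitude. -/
theorem IsRho.not_mem_range (hG : Good (plusForm 4 F)) {ρ : MulAut (P (plusForm 4 F))}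
    (hρ : IsRho ρ) : ρ ∉ (Psi (plusForm 4 F)).range := by
  rintro hmem
  -- the stabiliser of `x𝕆` is mapped to the stabiliser of the point `x̄`
  obtain ⟨x, hx0, hx⟩ := hG.sing
  have hxc0 : oconj x ≠ 0 := by
    intro h
    apply hx0
    rw [← oconj_oconj x, h]
    exact (kap F).map_zero
  have key : (stab hG (xO x)).map ρ.toMonoidHom = stab hG (Submodule.span F {oconj x}) := by
    have h1 : ∀ (g h : ↥(E (plusForm 4 F))) (g₁ g₂ : V8 F ≃ₗ[F] V8 F),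
        TriE (g : V8 F ≃ₗ[F] V8 F) g₁ g₂ → (h : V8 F ≃ₗ[F] V8 F) = kap F * g₁ * kap F →
        ((g : P (plusForm 4 F)) ∈ stab hG (xO x) ↔
          (h : P (plusForm 4 F)) ∈ stab hG (Submodule.span F {oconj x})) := by
      intro g h g₁ g₂ ht hh
      rw [mem_stab, mem_stab, pact_mk, pact_mk, mapHom_xO ht.2, mapHom_span, hh]
      have h2 : (kap F * g₁ * kap F) (oconj x) = oconj (g₁ x) := by
        show oconj (g₁ (oconj (oconj x))) = _
        rw [oconj_oconj]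
      rw [h2, xO_eq_iff hG hx hx0 (fun h0 => hx0 (g₁.map_eq_zero_iff.1 h0)),
        span_eq_span_iff hx0, span_eq_span_iff hxc0]
      constructor
      · rintro ⟨c, hc, h3⟩
        exact ⟨c, hc, by rw [h3]; exact (kap F).map_smul c x⟩
      · rintro ⟨c, hc, h3⟩
        refine ⟨c, hc, ?_⟩
        rw [← oconj_oconj (g₁ x), h3]
        have := (kap F).map_smul c (oconj x)
        refine this.trans ?_
        show c • oconj (oconj x) = c • x
        rw [oconj_oconj]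
    ext p
    constructor
    · rintro ⟨q, hq, rfl⟩
      obtain ⟨g, rfl⟩ := QuotientGroup.mk_surjective q
      obtain ⟨g₁, g₂, ht⟩ := exists_triple hG g.2
      show ρ (g : P (plusForm 4 F)) ∈ _
      rw [hρ g ⟨kap F * g₁ * kap F, kap_conj_mem ht.1.2.1⟩ g₁ g₂ ht rfl]
      exact (h1 g _ g₁ g₂ ht rfl).1 hq
    · intro hp
      obtain ⟨h, rfl⟩ := QuotientGroup.mk_surjective p
      obtain ⟨g, g₂, ht⟩ := exists_triple₁ hG (kap_conj_mem h.2)
      exact ⟨((⟨g, ht.1.1⟩ : ↥(E (plusForm 4 F))) : P (plusForm 4 F)),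
        (h1 ⟨g, ht.1.1⟩ h _ g₂ ht (kap_conj_conj _).symm).2 hp,
        hρ ⟨g, ht.1.1⟩ h _ g₂ ht (kap_conj_conj _).symm⟩
  have hinv : ρ⁻¹ ∈ (Psi (plusForm 4 F)).range := inv_mem hmem
  have hxc : plusForm 4 F (oconj x) = 0 := by rw [norm_oconj, hx]
  obtain ⟨y, hy, hy0, h⟩ := Cfsg.Agent.AutOrth.Final.pt_of_mem_range hG hinv (oconj x) hxc hxc0
  rw [← key, Cfsg.Agent.ClassicalGeometry.TrialityIndex.map_mulAut_inv] at h
  have h1 : TS (plusForm 4 F) (xO x) := by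
    rintro _ ⟨w, rfl⟩
    show plusForm 4 F (omul x w) = 0
    rw [norm_omul, hx, zero_mul]
  have h2 : TS (plusForm 4 F) (Submodule.span F {y}) := by
    intro w hw
    obtain ⟨c, rfl⟩ := Submodule.mem_span_singleton.1 hw
    rw [QuadraticMap.map_smul, hy, smul_zero]
  have h3 : xO x ≠ ⊥ := by
    intro h3
    have : x ∈ xO x := ⟨one8 F, omul_one x⟩
    rw [h3, Submodule.mem_bot] at this
    exact hx0 this
  have h4 := Cfsg.Agent.ClassicalGeometry.TrialityIndex.stab_injective hG h1 h2 h3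
    (by rw [Ne, Submodule.span_singleton_eq_bot]; exact hy0) h
  have h5 := Cfsg.Agent.ClassicalGeometry.TrialitySpaces.finrank_leftSp hx hx0
  have h6 : Module.finrank F (xO x) = 4 := h5
  rw [h4, finrank_span_singleton hy0] at h6
  omega

end Cfsg.Agent.H989.OutOrth.Tri
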